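import Cfsg.Agent.HeRecog.M8a.BS34IdxC.Defs

/-! Generated: kernel checks. -/

set_option autoImplicit false
set_option maxRecDepth 100000
set_option Elab.async false

namespace Cfsg.Agent.HeRecog.M8a.BS34IdxC

open Cfsg.Agent.CosetCert

theorem cosetAt0 : allFrom (data.checkCoset) 0 750 = true := by decide +kernel

theorem cosetAt750 : allFrom (data.checkCoset) 750 750 = true := by decide +kernel

theorem cosetAt1500 : allFrom (data.checkCoset) 1500 750 = true := by decide +kernel

theorem cosetAt2250 : allFrom (data.checkCoset) 2250 750 = true := by decide +kernel

theorem cosetAt3000 : allFrom (data.checkCoset) 3000 750 = true := by decide +kernel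

theorem cosetAt3750 : allFrom (data.checkCoset) 3750 750 = true := by decide +kernel

theorem cosetAt4500 : allFrom (data.checkCoset) 4500 750 = true := by decide +kernel

theorem cosetAt5250 : allFrom (data.checkCoset) 5250 750 = true := by decide +kernel


end Cfsg.Agent.HeRecog.M8a.BS34IdxC
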