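import Cfsg.Agent.HeRecog.M8a.BS34IdxC.Defs

/-! Generated: kernel checks. -/

set_option autoImplicit false
set_option maxRecDepth 100000
set_option Elab.async false

namespace Cfsg.Agent.HeRecog.M8a.BS34IdxC

open Cfsg.Agent.CosetCert

theorem cosetAt6000 : allFrom (data.checkCoset) 6000 750 = true := by decide +kernel

theorem cosetAt6750 : allFrom (data.checkCoset) 6750 750 = true := by decide +kernel

theorem cosetAt7500 : allFrom (data.checkCoset) 7500 750 = true := by decide +kernel

theorem cosetAt8250 : allFrom (data.checkCoset) 8250 750 = true := by decide +kernel

theorem cosetAt9000 : allFrom (data.checkCoset) 9000 750 = true := by decide +kernel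

theorem cosetAt9750 : allFrom (data.checkCoset) 9750 750 = true := by decide +kernel

theorem cosetAt10500 : allFrom (data.checkCoset) 10500 750 = true := by decide +kernel

theorem cosetAt11250 : allFrom (data.checkCoset) 11250 135 = true := by decide +kernel


end Cfsg.Agent.HeRecog.M8a.BS34IdxC
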