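import Cfsg.Agent.HeRecog.M8a.BS34IdxC.Defs

/-! Generated: kernel checks. -/

set_option autoImplicit false
set_option maxRecDepth 100000
set_option Elab.async false

namespace Cfsg.Agent.HeRecog.M8a.BS34IdxC

open Cfsg.Agent.CosetCert

theorem logAt260000 : allFrom (data.checkLog) 260000 2500 = true := by decide +kernel

theorem logAt262500 : allFrom (data.checkLog) 262500 2500 = true := by decide +kernel

theorem logAt265000 : allFrom (data.checkLog) 265000 2500 = true := by decide +kernel

theorem logAt267500 : allFrom (data.checkLog) 267500 2500 = true := by decide +kernel

theorem logAt270000 : allFrom (data.checkLog) 270000 2500 = true := by decide +kernel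

theorem logAt272500 : allFrom (data.checkLog) 272500 2500 = true := by decide +kernel

theorem logAt275000 : allFrom (data.checkLog) 275000 2500 = true := by decide +kernel

theorem logAt277500 : allFrom (data.checkLog) 277500 2500 = true := by decide +kernel


end Cfsg.Agent.HeRecog.M8a.BS34IdxC
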