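import Cfsg.Agent.HeRecog.M8a.BS34IdxC.Defs

/-! Generated: kernel checks. -/

set_option autoImplicit false
set_option maxRecDepth 100000
set_option Elab.async false

namespace Cfsg.Agent.HeRecog.M8a.BS34IdxC

open Cfsg.Agent.CosetCert

theorem logAt320000 : allFrom (data.checkLog) 320000 2500 = true := by decide +kernel

theorem logAt322500 : allFrom (data.checkLog) 322500 2500 = true := by decide +kernel

theorem logAt325000 : allFrom (data.checkLog) 325000 2500 = true := by decide +kernel

theorem logAt327500 : allFrom (data.checkLog) 327500 2500 = true := by decide +kernel

theorem logAt330000 : allFrom (data.checkLog) 330000 2500 = true := by decide +kernel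

theorem logAt332500 : allFrom (data.checkLog) 332500 2500 = true := by decide +kernel

theorem logAt335000 : allFrom (data.checkLog) 335000 2500 = true := by decide +kernel

theorem logAt337500 : allFrom (data.checkLog) 337500 2500 = true := by decide +kernel


end Cfsg.Agent.HeRecog.M8a.BS34IdxC
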