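import Cfsg.Agent.HeRecog.M8a.BS34IdxC.Defs

/-! Generated: kernel checks. -/

set_option autoImplicit false
set_option maxRecDepth 100000
set_option Elab.async false

namespace Cfsg.Agent.HeRecog.M8a.BS34IdxC

open Cfsg.Agent.CosetCert

theorem logAt380000 : allFrom (data.checkLog) 380000 2500 = true := by decide +kernel

theorem logAt382500 : allFrom (data.checkLog) 382500 2500 = true := by decide +kernel

theorem logAt385000 : allFrom (data.checkLog) 385000 2500 = true := by decide +kernel

theorem logAt387500 : allFrom (data.checkLog) 387500 2500 = true := by decide +kernel

theorem logAt390000 : allFrom (data.checkLog) 390000 2500 = true := by decide +kernel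

theorem logAt392500 : allFrom (data.checkLog) 392500 11 = true := by decide +kernel


end Cfsg.Agent.HeRecog.M8a.BS34IdxC
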