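import Cfsg.Agent.HeRecog.M8a.BS34IdxC.Defs

/-! Generated: kernel checks. -/

set_option autoImplicit false
set_option maxRecDepth 100000
set_option Elab.async false

namespace Cfsg.Agent.HeRecog.M8a.BS34IdxC

open Cfsg.Agent.CosetCert

theorem logAt140000 : allFrom (data.checkLog) 140000 2500 = true := by decide +kernel

theorem logAt142500 : allFrom (data.checkLog) 142500 2500 = true := by decide +kernel

theorem logAt145000 : allFrom (data.checkLog) 145000 2500 = true := by decide +kernel

theorem logAt147500 : allFrom (data.checkLog) 147500 2500 = true := by decide +kernel

theorem logAt150000 : allFrom (data.checkLog) 150000 2500 = true := by decide +kernel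

theorem logAt152500 : allFrom (data.checkLog) 152500 2500 = true := by decide +kernel

theorem logAt155000 : allFrom (data.checkLog) 155000 2500 = true := by decide +kernel

theorem logAt157500 : allFrom (data.checkLog) 157500 2500 = true := by decide +kernel


end Cfsg.Agent.HeRecog.M8a.BS34IdxC
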