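import Cfsg.Agent.HeRecog.M8a.BS34IdxC.Defs

/-! Generated: kernel checks. -/

set_option autoImplicit false
set_option maxRecDepth 100000
set_option Elab.async false

namespace Cfsg.Agent.HeRecog.M8a.BS34IdxC

open Cfsg.Agent.CosetCert

theorem logAt160000 : allFrom (data.checkLog) 160000 2500 = true := by decide +kernel

theorem logAt162500 : allFrom (data.checkLog) 162500 2500 = true := by decide +kernel

theorem logAt165000 : allFrom (data.checkLog) 165000 2500 = true := by decide +kernel

theorem logAt167500 : allFrom (data.checkLog) 167500 2500 = true := by decide +kernel

theorem logAt170000 : allFrom (data.checkLog) 170000 2500 = true := by decide +kernel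

theorem logAt172500 : allFrom (data.checkLog) 172500 2500 = true := by decide +kernel

theorem logAt175000 : allFrom (data.checkLog) 175000 2500 = true := by decide +kernel

theorem logAt177500 : allFrom (data.checkLog) 177500 2500 = true := by decide +kernel


end Cfsg.Agent.HeRecog.M8a.BS34IdxC
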