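import Cfsg.Agent.HeRecog.M8a.BS34IdxC.Defs

/-! Generated: kernel checks. -/

set_option autoImplicit false
set_option maxRecDepth 100000
set_option Elab.async false

namespace Cfsg.Agent.HeRecog.M8a.BS34IdxC

open Cfsg.Agent.CosetCert

theorem logAt180000 : allFrom (data.checkLog) 180000 2500 = true := by decide +kernel

theorem logAt182500 : allFrom (data.checkLog) 182500 2500 = true := by decide +kernel

theorem logAt185000 : allFrom (data.checkLog) 185000 2500 = true := by decide +kernel

theorem logAt187500 : allFrom (data.checkLog) 187500 2500 = true := by decide +kernel

theorem logAt190000 : allFrom (data.checkLog) 190000 2500 = true := by decide +kernel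

theorem logAt192500 : allFrom (data.checkLog) 192500 2500 = true := by decide +kernel

theorem logAt195000 : allFrom (data.checkLog) 195000 2500 = true := by decide +kernel

theorem logAt197500 : allFrom (data.checkLog) 197500 2500 = true := by decide +kernel


end Cfsg.Agent.HeRecog.M8a.BS34IdxC
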