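import Cfsg.Agent.HeRecog.M8a.BS34IdxC.Log0
import Cfsg.Agent.HeRecog.M8a.BS34IdxC.Log1
import Cfsg.Agent.HeRecog.M8a.BS34IdxC.Log2
import Cfsg.Agent.HeRecog.M8a.BS34IdxC.Log3
import Cfsg.Agent.HeRecog.M8a.BS34IdxC.Log4
import Cfsg.Agent.HeRecog.M8a.BS34IdxC.Log5
import Cfsg.Agent.HeRecog.M8a.BS34IdxC.Log6
import Cfsg.Agent.HeRecog.M8a.BS34IdxC.Log7
import Cfsg.Agent.HeRecog.M8a.BS34IdxC.Log8
import Cfsg.Agent.HeRecog.M8a.BS34IdxC.Log9
import Cfsg.Agent.HeRecog.M8a.BS34IdxC.Log10
import Cfsg.Agent.HeRecog.M8a.BS34IdxC.Log11
import Cfsg.Agent.HeRecog.M8a.BS34IdxC.Log12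
import Cfsg.Agent.HeRecog.M8a.BS34IdxC.Log13
import Cfsg.Agent.HeRecog.M8a.BS34IdxC.Log14
import Cfsg.Agent.HeRecog.M8a.BS34IdxC.Log15
import Cfsg.Agent.HeRecog.M8a.BS34IdxC.Log16
import Cfsg.Agent.HeRecog.M8a.BS34IdxC.Log17
import Cfsg.Agent.HeRecog.M8a.BS34IdxC.Log18
import Cfsg.Agent.HeRecog.M8a.BS34IdxC.Log19
import Cfsg.Agent.HeRecog.M8a.BS34IdxC.Coset0
import Cfsg.Agent.HeRecog.M8a.BS34IdxC.Coset1

/-! Generated: validity. -/

set_option autoImplicit false
set_option maxRecDepth 100000

namespace Cfsg.Agent.HeRecog.M8a.BS34IdxC

open Cfsg.Agent.CosetCert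

theorem log_ok : ∀ i, i < 392511 → data.checkLog i = true := by
  have h0 : ∀ i, i < 0 → data.checkLog i = true := forall_lt_zero
  have h1 := forall_lt_step (b := 2500) h0 logAt0 rfl
  have h2 := forall_lt_step (b := 5000) h1 logAt2500 rfl
  have h3 := forall_lt_step (b := 7500) h2 logAt5000 rfl
  have h4 := forall_lt_step (b := 10000) h3 logAt7500 rfl
  have h5 := forall_lt_step (b := 12500) h4 logAt10000 rfl
  have h6 := forall_lt_step (b := 15000) h5 logAt12500 rfl
  have h7 := forall_lt_step (b := 17500) h6 logAt15000 rfl
  have h8 := forall_lt_step (b := 20000) h7 logAt17500 rfl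
  have h9 := forall_lt_step (b := 22500) h8 logAt20000 rfl
  have h10 := forall_lt_step (b := 25000) h9 logAt22500 rfl
  have h11 := forall_lt_step (b := 27500) h10 logAt25000 rfl
  have h12 := forall_lt_step (b := 30000) h11 logAt27500 rfl
  have h13 := forall_lt_step (b := 32500) h12 logAt30000 rfl
  have h14 := forall_lt_step (b := 35000) h13 logAt32500 rfl
  have h15 := forall_lt_step (b := 37500) h14 logAt35000 rfl
  have h16 := forall_lt_step (b := 40000) h15 logAt37500 rfl
  have h17 := forall_lt_step (b := 42500) h16 logAt40000 rfl
  have h18 := forall_lt_step (b := 45000) h17 logAt42500 rfl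
  have h19 := forall_lt_step (b := 47500) h18 logAt45000 rfl
  have h20 := forall_lt_step (b := 50000) h19 logAt47500 rfl
  have h21 := forall_lt_step (b := 52500) h20 logAt50000 rfl
  have h22 := forall_lt_step (b := 55000) h21 logAt52500 rfl
  have h23 := forall_lt_step (b := 57500) h22 logAt55000 rfl
  have h24 := forall_lt_step (b := 60000) h23 logAt57500 rfl
  have h25 := forall_lt_step (b := 62500) h24 logAt60000 rfl
  have h26 := forall_lt_step (b := 65000) h25 logAt62500 rfl
  have h27 := forall_lt_step (b := 67500) h26 logAt65000 rfl
  have h28 := forall_lt_step (b := 70000) h27 logAt67500 rfl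
  have h29 := forall_lt_step (b := 72500) h28 logAt70000 rfl
  have h30 := forall_lt_step (b := 75000) h29 logAt72500 rfl
  have h31 := forall_lt_step (b := 77500) h30 logAt75000 rfl
  have h32 := forall_lt_step (b := 80000) h31 logAt77500 rfl
  have h33 := forall_lt_step (b := 82500) h32 logAt80000 rfl
  have h34 := forall_lt_step (b := 85000) h33 logAt82500 rfl
  have h35 := forall_lt_step (b := 87500) h34 logAt85000 rfl
  have h36 := forall_lt_step (b := 90000) h35 logAt87500 rfl
  have h37 := forall_lt_step (b := 92500) h36 logAt90000 rfl
  have h38 := forall_lt_step (b := 95000) h37 logAt92500 rfl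
  have h39 := forall_lt_step (b := 97500) h38 logAt95000 rfl
  have h40 := forall_lt_step (b := 100000) h39 logAt97500 rfl
  have h41 := forall_lt_step (b := 102500) h40 logAt100000 rfl
  have h42 := forall_lt_step (b := 105000) h41 logAt102500 rfl
  have h43 := forall_lt_step (b := 107500) h42 logAt105000 rfl
  have h44 := forall_lt_step (b := 110000) h43 logAt107500 rfl
  have h45 := forall_lt_step (b := 112500) h44 logAt110000 rfl
  have h46 := forall_lt_step (b := 115000) h45 logAt112500 rfl
  have h47 := forall_lt_step (b := 117500) h46 logAt115000 rfl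
  have h48 := forall_lt_step (b := 120000) h47 logAt117500 rfl
  have h49 := forall_lt_step (b := 122500) h48 logAt120000 rfl
  have h50 := forall_lt_step (b := 125000) h49 logAt122500 rfl
  have h51 := forall_lt_step (b := 127500) h50 logAt125000 rfl
  have h52 := forall_lt_step (b := 130000) h51 logAt127500 rfl
  have h53 := forall_lt_step (b := 132500) h52 logAt130000 rfl
  have h54 := forall_lt_step (b := 135000) h53 logAt132500 rfl
  have h55 := forall_lt_step (b := 137500) h54 logAt135000 rfl
  have h56 := forall_lt_step (b := 140000) h55 logAt137500 rfl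
  have h57 := forall_lt_step (b := 142500) h56 logAt140000 rfl
  have h58 := forall_lt_step (b := 145000) h57 logAt142500 rfl
  have h59 := forall_lt_step (b := 147500) h58 logAt145000 rfl
  have h60 := forall_lt_step (b := 150000) h59 logAt147500 rfl
  have h61 := forall_lt_step (b := 152500) h60 logAt150000 rfl
  have h62 := forall_lt_step (b := 155000) h61 logAt152500 rfl
  have h63 := forall_lt_step (b := 157500) h62 logAt155000 rfl
  have h64 := forall_lt_step (b := 160000) h63 logAt157500 rfl
  have h65 := forall_lt_step (b := 162500) h64 logAt160000 rfl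
  have h66 := forall_lt_step (b := 165000) h65 logAt162500 rfl
  have h67 := forall_lt_step (b := 167500) h66 logAt165000 rfl
  have h68 := forall_lt_step (b := 170000) h67 logAt167500 rfl
  have h69 := forall_lt_step (b := 172500) h68 logAt170000 rfl
  have h70 := forall_lt_step (b := 175000) h69 logAt172500 rfl
  have h71 := forall_lt_step (b := 177500) h70 logAt175000 rfl
  have h72 := forall_lt_step (b := 180000) h71 logAt177500 rfl
  have h73 := forall_lt_step (b := 182500) h72 logAt180000 rfl
  have h74 := forall_lt_step (b := 185000) h73 logAt182500 rfl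
  have h75 := forall_lt_step (b := 187500) h74 logAt185000 rfl
  have h76 := forall_lt_step (b := 190000) h75 logAt187500 rfl
  have h77 := forall_lt_step (b := 192500) h76 logAt190000 rfl
  have h78 := forall_lt_step (b := 195000) h77 logAt192500 rfl
  have h79 := forall_lt_step (b := 197500) h78 logAt195000 rfl
  have h80 := forall_lt_step (b := 200000) h79 logAt197500 rfl
  have h81 := forall_lt_step (b := 202500) h80 logAt200000 rfl
  have h82 := forall_lt_step (b := 205000) h81 logAt202500 rfl
  have h83 := forall_lt_step (b := 207500) h82 logAt205000 rfl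
  have h84 := forall_lt_step (b := 210000) h83 logAt207500 rfl
  have h85 := forall_lt_step (b := 212500) h84 logAt210000 rfl
  have h86 := forall_lt_step (b := 215000) h85 logAt212500 rfl
  have h87 := forall_lt_step (b := 217500) h86 logAt215000 rfl
  have h88 := forall_lt_step (b := 220000) h87 logAt217500 rfl
  have h89 := forall_lt_step (b := 222500) h88 logAt220000 rfl
  have h90 := forall_lt_step (b := 225000) h89 logAt222500 rfl
  have h91 := forall_lt_step (b := 227500) h90 logAt225000 rfl
  have h92 := forall_lt_step (b := 230000) h91 logAt227500 rfl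
  have h93 := forall_lt_step (b := 232500) h92 logAt230000 rfl
  have h94 := forall_lt_step (b := 235000) h93 logAt232500 rfl
  have h95 := forall_lt_step (b := 237500) h94 logAt235000 rfl
  have h96 := forall_lt_step (b := 240000) h95 logAt237500 rfl
  have h97 := forall_lt_step (b := 242500) h96 logAt240000 rfl
  have h98 := forall_lt_step (b := 245000) h97 logAt242500 rfl
  have h99 := forall_lt_step (b := 247500) h98 logAt245000 rfl
  have h100 := forall_lt_step (b := 250000) h99 logAt247500 rfl
  have h101 := forall_lt_step (b := 252500) h100 logAt250000 rfl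
  have h102 := forall_lt_step (b := 255000) h101 logAt252500 rfl
  have h103 := forall_lt_step (b := 257500) h102 logAt255000 rfl
  have h104 := forall_lt_step (b := 260000) h103 logAt257500 rfl
  have h105 := forall_lt_step (b := 262500) h104 logAt260000 rfl
  have h106 := forall_lt_step (b := 265000) h105 logAt262500 rfl
  have h107 := forall_lt_step (b := 267500) h106 logAt265000 rfl
  have h108 := forall_lt_step (b := 270000) h107 logAt267500 rfl
  have h109 := forall_lt_step (b := 272500) h108 logAt270000 rfl
  have h110 := forall_lt_step (b := 275000) h109 logAt272500 rfl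
  have h111 := forall_lt_step (b := 277500) h110 logAt275000 rfl
  have h112 := forall_lt_step (b := 280000) h111 logAt277500 rfl
  have h113 := forall_lt_step (b := 282500) h112 logAt280000 rfl
  have h114 := forall_lt_step (b := 285000) h113 logAt282500 rfl
  have h115 := forall_lt_step (b := 287500) h114 logAt285000 rfl
  have h116 := forall_lt_step (b := 290000) h115 logAt287500 rfl
  have h117 := forall_lt_step (b := 292500) h116 logAt290000 rfl
  have h118 := forall_lt_step (b := 295000) h117 logAt292500 rfl
  have h119 := forall_lt_step (b := 297500) h118 logAt295000 rfl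
  have h120 := forall_lt_step (b := 300000) h119 logAt297500 rfl
  have h121 := forall_lt_step (b := 302500) h120 logAt300000 rfl
  have h122 := forall_lt_step (b := 305000) h121 logAt302500 rfl
  have h123 := forall_lt_step (b := 307500) h122 logAt305000 rfl
  have h124 := forall_lt_step (b := 310000) h123 logAt307500 rfl
  have h125 := forall_lt_step (b := 312500) h124 logAt310000 rfl
  have h126 := forall_lt_step (b := 315000) h125 logAt312500 rfl
  have h127 := forall_lt_step (b := 317500) h126 logAt315000 rfl
  have h128 := forall_lt_step (b := 320000) h127 logAt317500 rfl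
  have h129 := forall_lt_step (b := 322500) h128 logAt320000 rfl
  have h130 := forall_lt_step (b := 325000) h129 logAt322500 rfl
  have h131 := forall_lt_step (b := 327500) h130 logAt325000 rfl
  have h132 := forall_lt_step (b := 330000) h131 logAt327500 rfl
  have h133 := forall_lt_step (b := 332500) h132 logAt330000 rfl
  have h134 := forall_lt_step (b := 335000) h133 logAt332500 rfl
  have h135 := forall_lt_step (b := 337500) h134 logAt335000 rfl
  have h136 := forall_lt_step (b := 340000) h135 logAt337500 rfl
  have h137 := forall_lt_step (b := 342500) h136 logAt340000 rfl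
  have h138 := forall_lt_step (b := 345000) h137 logAt342500 rfl
  have h139 := forall_lt_step (b := 347500) h138 logAt345000 rfl
  have h140 := forall_lt_step (b := 350000) h139 logAt347500 rfl
  have h141 := forall_lt_step (b := 352500) h140 logAt350000 rfl
  have h142 := forall_lt_step (b := 355000) h141 logAt352500 rfl
  have h143 := forall_lt_step (b := 357500) h142 logAt355000 rfl
  have h144 := forall_lt_step (b := 360000) h143 logAt357500 rfl
  have h145 := forall_lt_step (b := 362500) h144 logAt360000 rfl
  have h146 := forall_lt_step (b := 365000) h145 logAt362500 rfl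
  have h147 := forall_lt_step (b := 367500) h146 logAt365000 rfl
  have h148 := forall_lt_step (b := 370000) h147 logAt367500 rfl
  have h149 := forall_lt_step (b := 372500) h148 logAt370000 rfl
  have h150 := forall_lt_step (b := 375000) h149 logAt372500 rfl
  have h151 := forall_lt_step (b := 377500) h150 logAt375000 rfl
  have h152 := forall_lt_step (b := 380000) h151 logAt377500 rfl
  have h153 := forall_lt_step (b := 382500) h152 logAt380000 rfl
  have h154 := forall_lt_step (b := 385000) h153 logAt382500 rfl
  have h155 := forall_lt_step (b := 387500) h154 logAt385000 rfl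
  have h156 := forall_lt_step (b := 390000) h155 logAt387500 rfl
  have h157 := forall_lt_step (b := 392500) h156 logAt390000 rfl
  have h158 := forall_lt_step (b := 392511) h157 logAt392500 rfl
  exact h158

theorem coset_ok : ∀ i, i < 11385 → data.checkCoset i = true := by
  have h0 : ∀ i, i < 0 → data.checkCoset i = true := forall_lt_zero
  have h1 := forall_lt_step (b := 750) h0 cosetAt0 rfl
  have h2 := forall_lt_step (b := 1500) h1 cosetAt750 rfl
  have h3 := forall_lt_step (b := 2250) h2 cosetAt1500 rfl
  have h4 := forall_lt_step (b := 3000) h3 cosetAt2250 rfl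
  have h5 := forall_lt_step (b := 3750) h4 cosetAt3000 rfl
  have h6 := forall_lt_step (b := 4500) h5 cosetAt3750 rfl
  have h7 := forall_lt_step (b := 5250) h6 cosetAt4500 rfl
  have h8 := forall_lt_step (b := 6000) h7 cosetAt5250 rfl
  have h9 := forall_lt_step (b := 6750) h8 cosetAt6000 rfl
  have h10 := forall_lt_step (b := 7500) h9 cosetAt6750 rfl
  have h11 := forall_lt_step (b := 8250) h10 cosetAt7500 rfl
  have h12 := forall_lt_step (b := 9000) h11 cosetAt8250 rfl
  have h13 := forall_lt_step (b := 9750) h12 cosetAt9000 rfl
  have h14 := forall_lt_step (b := 10500) h13 cosetAt9750 rfl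
  have h15 := forall_lt_step (b := 11250) h14 cosetAt10500 rfl
  have h16 := forall_lt_step (b := 11385) h15 cosetAt11250 rfl
  exact h16

theorem mem_valid : data.MemValid where
  log := log_ok
  iv_iv := by
    have h : ∀ x : Fin 19, ivL (ivL x) = x ∧ ivL x < 19 := by decide +kernel
    exact fun x hx => h ⟨x, hx⟩
  iv_big := fun x hx => by
    have h : Nat.blt x 19 = false := eq_false_of_ne_true fun e => absurd (Nat.ble_eq.mp e) (Nat.not_lt.2 hx)
    show ivL x = x
    simp [ivL, h]
  pw := by
    have h : ∀ k : Fin 130, data.PW k = pack (data.W.getD k []) := by decide +kernel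
    exact fun k hk => h ⟨k, hk⟩
  letters := by decide +kernel
  K_small := by decide +kernel
  nR_le := by decide +kernel

theorem log_valid : data.LogValid where
  n_pos := by decide +kernel
  root := by decide +kernel
  log := log_ok
  coset := coset_ok
  iv_iv := mem_valid.iv_iv
  iv_big := mem_valid.iv_big
  pw := mem_valid.pw
  letters := mem_valid.letters
  K_small := mem_valid.K_small
  nR_le := mem_valid.nR_le

theorem fits : Fits data Cfsg.Agent.HeRecog.M8a.BS34.RS ((List.range 8).map fun g => [g]) where
  K := rfl
  iv := rfl
  invol := by decide +kernel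
  take := by decide +kernel
  drop := by decide +kernel


end Cfsg.Agent.HeRecog.M8a.BS34IdxC
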